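import Groth.Agent.Lib.ProjPt.Basic
import Groth.Agent.Lib.SymAlgX.Affine
import Groth.Prelude.Def_RelSpec2

/-!
# The chart `D₊(T)` of `Proj R[T, Z]` is the affine line in `Z / T`
-/

set_option autoImplicit false
set_option linter.all false
set_option backward.isDefEq.respectTransparency false

universe u

open CategoryTheory AlgebraicGeometry HomogeneousLocalization DirectSum Polynomial
open scoped HomogeneousIdeal

noncomputable section

namespace GrothLib.ConeInv10

section ring

variable {R : Type u} [CommRing R] {B : Type u} [CommRing B] {ℬ : ℕ → AddSubgroup B} [GradedRing ℬ]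
  (σ : R →+* B) (hσ : ∀ r, σ r ∈ ℬ 0)

/-- A statement on homogeneous elements follows from monomials in generators. -/
theorem graded_induction (G : Set B) (hG : ∀ x ∈ G, x ∈ ℬ 1)
    (hgen : Subring.closure (Set.range σ ∪ G) = ⊤) (P : ℕ → B → Prop)
    (hzero : ∀ n, P n 0) (hadd : ∀ n a b, P n a → P n b → P n (a + b)) (hneg : ∀ n a, P n a → P n (-a))
    (hbase : ∀ r, P 0 (σ r)) (hG1 : ∀ x ∈ G, P 1 x)
    (hmul : ∀ m n a b, a ∈ ℬ m → b ∈ ℬ n → P m a → P n b → P (m + n) (a * b))
    (hone : P 0 1) (hσ : ∀ r, σ r ∈ ℬ 0) (n : ℕ) (a : B) (ha : a ∈ ℬ n) : P n a := by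
  classical
  have hmon : ∀ m ∈ Submonoid.closure (Set.range σ ∪ G), ∃ k, m ∈ ℬ k ∧ P k m := by
    intro m hm
    induction hm using Submonoid.closure_induction with
    | mem m hm =>
      rcases hm with ⟨r, rfl⟩ | hm
      · exact ⟨0, hσ r, hbase r⟩
      · exact ⟨1, hG m hm, hG1 m hm⟩
    | one => exact ⟨0, SetLike.one_mem_graded _, hone⟩
    | mul x y _ _ hx hy =>
      obtain ⟨k, hk, hPk⟩ := hx
      obtain ⟨l, hl, hPl⟩ := hy
      exact ⟨k + l, SetLike.mul_mem_graded hk hl, hmul k l x y hk hl hPk hPl⟩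
  have key : ∀ x ∈ AddSubgroup.closure (Submonoid.closure (Set.range σ ∪ G) : Set B),
      ∀ i, P i (decompose ℬ x i : B) := by
    intro x hx
    induction hx using AddSubgroup.closure_induction with
    | mem x hx =>
      intro i
      obtain ⟨k, hk, hPk⟩ := hmon x hx
      by_cases h : k = i
      · subst h; rwa [decompose_of_mem_same _ hk]
      · rw [decompose_of_mem_ne _ hk h]; exact hzero i
    | zero => intro i; simpa using hzero i
    | add x y _ _ hx hy => intro i; simpa using hadd i _ _ (hx i) (hy i)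
    | neg x _ hx =>
      intro i
      rw [decompose_neg, DFinsupp.neg_apply, AddSubgroup.coe_neg]
      exact hneg i _ (hx i)
  have := key a (Subring.mem_closure_iff.1 (hgen.ge trivial)) n
  rwa [decompose_of_mem_same _ ha] at this

variable {T Z : B} (hT : T ∈ ℬ 1) (hZ : Z ∈ ℬ 1) (hgen : Subring.closure (Set.range σ ∪ {T, Z}) = ⊤)
  {C : Type u} [CommRing C] (σ' : R →+* C) (X' : C) (hC : Function.Bijective (Polynomial.eval₂RingHom σ' X'))
  (e : B →+* C) (heσ : ∀ r, e (σ r) = σ' r) (heT : e T = 1) (heZ : e Z = X')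

theorem isUnit_eval (heT : e T = 1) : IsUnit (e T) := heT ▸ isUnit_one

include hσ hT hZ hgen hC heσ heT heZ in
/-- `R[T, Z]_(T) ≅ R[Z / T]`. -/
theorem bijective_evalAway : Function.Bijective (ProjPt.evalAway ℬ e T (isUnit_eval e heT)) := by
  classical
  have hmk : ∀ (n : ℕ) (b : B) (hb : b ∈ ℬ (n • 1)),
      ProjPt.evalAway ℬ e T (isUnit_eval e heT) (Away.mk ℬ hT n b hb) = e b := fun n b hb => by
    have := ProjPt.evalAway_mk_spec ℬ e hT (isUnit_eval e heT) n b hb
    rwa [heT, one_pow, mul_one] at this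
  let L := Localization.Away T
  let al : B →+* L := algebraMap B L
  let v : L := Localization.mk Z ⟨T, Submonoid.mem_powers T⟩
  have hv : al T * v = al Z := by
    show algebraMap B L T * Localization.mk Z _ = algebraMap B L Z
    rw [Localization.mk_eq_mk']
    exact IsLocalization.mk'_spec' _ Z ⟨T, _⟩
  let Ψ : C →+* L := (Polynomial.eval₂RingHom (al.comp σ) v).comp
    (RingEquiv.ofBijective _ hC).symm.toRingHom
  have hΨσ : ∀ r, Ψ (σ' r) = al (σ r) := fun r => by
    have h1 : (RingEquiv.ofBijective _ hC) (Polynomial.C r) = σ' r := Polynomial.eval₂_C _ _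
    show Polynomial.eval₂RingHom (al.comp σ) v ((RingEquiv.ofBijective _ hC).symm (σ' r)) = _
    rw [← h1, RingEquiv.symm_apply_apply]
    exact Polynomial.eval₂_C _ _
  have hΨX : Ψ X' = v := by
    have h1 : (RingEquiv.ofBijective _ hC) Polynomial.X = X' := Polynomial.eval₂_X _ _
    show Polynomial.eval₂RingHom (al.comp σ) v ((RingEquiv.ofBijective _ hC).symm X') = _
    rw [(RingEquiv.symm_apply_eq _).2 h1.symm]
    exact Polynomial.eval₂_X _ _
  have key : ∀ (n : ℕ) (b : B), b ∈ ℬ n → al b = al T ^ n * Ψ (e b) := by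
    refine graded_induction σ {T, Z} (by rintro x (rfl | rfl) <;> assumption) hgen
      (fun n b => al b = al T ^ n * Ψ (e b)) (fun n => by simp)
      (fun n a b ha hb => by simp [ha, hb, mul_add]) (fun n a ha => by simp only [map_neg, ha]; exact (mul_neg _ _).symm)
      (fun r => by simp [heσ, hΨσ]) ?_ (fun m n a b _ _ ha hb => by simp only [map_mul, ha, hb, pow_add]; ring)
      (by simp) hσ
    rintro x (rfl | rfl)
    · simp [heT]
    · rw [pow_one, heZ, hΨX, hv]
  constructor
  · rw [injective_iff_map_eq_zero]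
    intro q hq
    obtain ⟨n, b, hb, rfl⟩ := Away.mk_surjective ℬ hT q
    rw [hmk] at hq
    have hb' : b ∈ ℬ n := by simpa using hb
    have h0 : al b = 0 := by rw [key n b hb', hq, map_zero, mul_zero]
    apply val_injective
    rw [Away.val_mk, val_zero, Localization.mk_eq_mk', IsLocalization.mk'_eq_zero_iff]
    exact (IsLocalization.map_eq_zero_iff (Submonoid.powers T) L b).1 h0
  · intro c
    obtain ⟨p, rfl⟩ := hC.2 c
    induction p using Polynomial.induction_on' with
    | add p q hp hq =>
      obtain ⟨a, ha⟩ := hp; obtain ⟨b, hb⟩ := hq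
      exact ⟨a + b, by rw [map_add, map_add, ha, hb]⟩
    | monomial i r =>
      refine ⟨Away.mk ℬ hT i (σ r * Z ^ i) ?_, ?_⟩
      · simpa using SetLike.mul_mem_graded (hσ r) (SetLike.pow_mem_graded i hZ)
      · rw [hmk, map_mul, map_pow, heσ, heZ, Polynomial.coe_eval₂RingHom, Polynomial.eval₂_monomial]

include hσ hT hZ hgen heσ heT heZ in
/-- Changing the coordinates by a unit scalar twists the evaluation by degree. -/
theorem eval_twist (f : B →+* C) (c : C) (hfσ : ∀ r, f (σ r) = σ' r) (hfT : f T = c) (hfZ : f Z = c * X')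
    (n : ℕ) (b : B) (hb : b ∈ ℬ n) : f b = c ^ n * e b := by
  refine graded_induction σ {T, Z} (by rintro x (rfl | rfl) <;> assumption) hgen
    (fun n b => f b = c ^ n * e b) (fun n => by simp) (fun n a b ha hb => by simp [ha, hb, mul_add])
    (fun n a ha => by simp [ha]) (fun r => by simp [hfσ, heσ]) ?_
    (fun m n a b _ _ ha hb => by simp only [map_mul, ha, hb, pow_add]; ring) (by simp) hσ n b hb
  rintro x (rfl | rfl)
  · simp [hfT, heT]
  · simp [hfZ, heZ]

end ring

/-- The symmetric algebra of a free module of rank one is a polynomial ring. -/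
theorem bijective_eval₂_sym {R : Type u} [CommRing R] {M : Type u} [AddCommGroup M] [Module R M] (t : M)
    (ht : Function.Bijective fun r : R => r • t) :
    Function.Bijective (Polynomial.eval₂RingHom (SymAlgX.str R M) (SymAlgX.gen R M t)) := by
  let l : R ≃ₗ[R] M := LinearEquiv.ofBijective (LinearMap.toSpanSingleton R M t) ht
  have hl : ∀ r : R, l r = r • t := fun _ => rfl
  obtain ⟨F, hFs, hFg⟩ := SymAlgX.exists_ringHom (M := M) (Polynomial.C : R →+* R[X])
    (AddMonoidHom.mk' (fun x => Polynomial.C (l.symm x) * Polynomial.X) fun x y => by simp [add_mul])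
    (fun r x => by simp [mul_assoc])
  have h1 : (Polynomial.eval₂RingHom (SymAlgX.str R M) (SymAlgX.gen R M t)).comp F = RingHom.id _ := by
    refine SymAlgX.ringHom_ext (fun r => ?_) fun x => ?_
    · rw [RingHom.comp_apply, hFs]; simp
    · obtain ⟨r, rfl⟩ := l.surjective x
      rw [RingHom.comp_apply, hFg, AddMonoidHom.mk'_apply, LinearEquiv.symm_apply_apply]
      simp only [RingHom.id_apply, Polynomial.coe_eval₂RingHom, map_mul,
        Polynomial.eval₂_mul, Polynomial.eval₂_C, Polynomial.eval₂_X]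
      rw [hl, map_smul, Algebra.smul_def]
  have h2 : F.comp (Polynomial.eval₂RingHom (SymAlgX.str R M) (SymAlgX.gen R M t)) = RingHom.id _ := by
    refine Polynomial.ringHom_ext (fun r => ?_) ?_
    · simp [hFs]
    · have hs : l.symm t = 1 := by rw [LinearEquiv.symm_apply_eq, hl, one_smul]
      simp [hFg, hs]
  exact Function.bijective_iff_has_inverse.2 ⟨F, fun p => RingHom.congr_fun h2 p, fun a => RingHom.congr_fun h1 a⟩

end GrothLib.ConeInv10
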