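import Groth.Agent.Lib.ConeInv10.Alg
import Mathlib.AlgebraicGeometry.ProjectiveSpectrum.Functor

/-!
# Changing the chart of a point of `Proj`
-/

set_option autoImplicit false
set_option linter.all false
set_option backward.isDefEq.respectTransparency false

universe u

open CategoryTheory AlgebraicGeometry HomogeneousLocalization
open GrothLib.ProjPt (evalAway evalAway_mk_spec evalAway_comp_awayMap)

noncomputable section

namespace GrothLib.ConeInv10

variable {A B σ τ : Type u} [CommRing A] [SetLike σ A] [AddSubgroupClass σ A] {𝒜 : ℕ → σ} [GradedRing 𝒜]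
  [CommRing B] [SetLike τ B] [AddSubgroupClass τ B] {ℬ : ℕ → τ} [GradedRing ℬ] {C : CommRingCat.{u}}

theorem evalAway_comp_map (φ : 𝒜 →+*ᵍ ℬ) (g : B →+* C) {d : ℕ} {x : A} (hx : x ∈ 𝒜 d) (h : IsUnit (g (φ x))) :
    (evalAway ℬ g (φ x) h).comp (Away.map φ x) = evalAway 𝒜 (g.comp φ.toRingHom) x h := by
  refine RingHom.ext fun w => ?_
  obtain ⟨n, a, ha, rfl⟩ := Away.mk_surjective 𝒜 hx w
  refine (h.pow n).mul_left_injective ?_
  dsimp only
  rw [RingHom.comp_apply, Away.map_mk φ x hx, evalAway_mk_spec]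
  exact (evalAway_mk_spec 𝒜 (g.comp φ.toRingHom) hx h n a ha).symm

theorem specMap_evalAway_awayι_eq (g : A →+* C) {d e : ℕ} {x y : A} (hx : x ∈ 𝒜 d) (hd : 0 < d) (hy : y ∈ 𝒜 e)
    (he : 0 < e) (hgx : IsUnit (g x)) (hgy : IsUnit (g y)) :
    Spec.map (CommRingCat.ofHom (evalAway 𝒜 g x hgx)) ≫ Proj.awayι 𝒜 x hx hd =
      Spec.map (CommRingCat.ofHom (evalAway 𝒜 g y hgy)) ≫ Proj.awayι 𝒜 y hy he := by
  have hu : IsUnit (g (x * y)) := by rw [map_mul]; exact hgx.mul hgy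
  rw [← evalAway_comp_awayMap 𝒜 g hy rfl hx hu hgx,
    ← evalAway_comp_awayMap 𝒜 g hx (mul_comm x y) hy hu hgy, CommRingCat.ofHom_comp, CommRingCat.ofHom_comp,
    Spec.map_comp, Spec.map_comp, Category.assoc, Category.assoc, Proj.SpecMap_awayMap_awayι,
    Proj.SpecMap_awayMap_awayι]
  rfl

/-- The point given by fractions commutes with `Proj` of a graded map. -/
theorem specMap_evalAway_map (φ : 𝒜 →+*ᵍ ℬ) (hirr : HomogeneousIdeal.irrelevant ℬ ≤ (HomogeneousIdeal.irrelevant 𝒜).map φ)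
    (g : B →+* C) {d : ℕ} {x : A} (hx : x ∈ 𝒜 d) (hd : 0 < d) (h : IsUnit (g (φ x))) :
    Spec.map (CommRingCat.ofHom (evalAway ℬ g (φ x) h)) ≫ Proj.awayι ℬ (φ x) (φ.2 hx) hd ≫ Proj.map φ hirr =
      Spec.map (CommRingCat.ofHom (evalAway 𝒜 (g.comp φ.toRingHom) x h)) ≫ Proj.awayι 𝒜 x hx hd := by
  rw [Proj.awayι_comp_map φ hirr hd x hx, ← Spec.map_comp_assoc, ← CommRingCat.ofHom_comp, evalAway_comp_map φ g hx h]

end GrothLib.ConeInv10
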