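import Groth.Agent.Lib.ConeInv10.Chart
import Groth.Agent.Lib.RelCone8.Retraction
import Groth.Agent.Lib.SymAlgX.Glue
import Groth.Agent.Lib.VA.Tensor
import Groth.Prelude.Def_Pic

/-!
# The pointed projective cone of a line bundle is the inverse line bundle
-/

set_option autoImplicit false
set_option linter.all false
set_option backward.isDefEq.respectTransparency false
set_option maxHeartbeats 800000

universe u

open CategoryTheory CategoryTheory.Limits AlgebraicGeometry TopologicalSpace Opposite HomogeneousLocalization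
open GrothLib.InvExt (mres fres IsGen mres_smul mres_self mres_mres)
open GrothLib.VA (tm)
open GrothLib.ProjPt (evalAway)
open GrothLib.RelCone8 (gh zAt zAt_mem rz map_rz_ι domChart domEmb Ehat)

noncomputable section

namespace GrothLib.ConeInv10

variable {Y : Scheme.{u}} {L L' : Y.Modules}

section pair

variable (η : CohB1.tensorMod L L' ≅ Coh.structureModule Y)

/-- The pairing of sections of inverse modules. -/
def pair {V : Y.Opens} (t : Γ(L, V)) (t' : Γ(L', V)) : Γ(Y, V) :=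
  η.hom.app V (tm t t')

theorem pair_smul {V : Y.Opens} (a b : Γ(Y, V)) (t : Γ(L, V)) (t' : Γ(L', V)) :
    pair η (a • t) (b • t') = a * b * pair η t t' := by
  show η.hom.app V (tm (a • t) (b • t')) = _
  rw [VA.tm_smul_left, VA.tm_smul_right, smul_smul, Ample.app_smul]
  rfl

theorem pair_mres {V W : Y.Opens} (h : W ≤ V) (t : Γ(L, V)) (t' : Γ(L', V)) :
    pair η (mres L h t) (mres L' h t') = fres Y h (pair η t t') := by
  show η.hom.app W (tm (mres L h t) (mres L' h t')) = _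
  rw [← VA.mres_tm]
  exact Ample.app_mres η.hom h (tm t t')

/-- Dual generators over an affine open. -/
def IsGood (U : Y.AffineZariskiSite) (p : Γ(L, U.1) × Γ(L', U.1)) : Prop :=
  IsGen L U.1 p.1 ∧ IsGen L' U.1 p.2 ∧ pair η p.1 p.2 = 1

theorem IsGood.mono {U W : Y.AffineZariskiSite} (h : W ≤ U) {p : Γ(L, U.1) × Γ(L', U.1)} (hp : IsGood η U p) :
    IsGood η W (mres L (Scheme.AffineZariskiSite.toOpens_mono h) p.1, mres L' (Scheme.AffineZariskiSite.toOpens_mono h) p.2) :=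
  ⟨hp.1.restrict _, hp.2.1.restrict _, by rw [pair_mres, hp.2.2]; exact map_one _⟩

theorem exists_good (hL : PicF.IsInvertible L) (hL' : PicF.IsInvertible L') (x : Y) :
    ∃ (U : Y.AffineZariskiSite) (p : Γ(L, U.1) × Γ(L', U.1)), x ∈ U.1 ∧ IsGood η U p := by
  obtain ⟨V, t, hV, ht⟩ := InvExt.exists_gen_nhd hL x
  obtain ⟨V', t', hV', ht'⟩ := InvExt.exists_gen_nhd hL' x
  obtain ⟨W, hW, hxW, hle⟩ := exists_isAffineOpen_mem_and_subset (x := x) (U := V ⊓ V') ⟨hV, hV'⟩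
  let s : Γ(L, W) := mres L (le_trans hle inf_le_left) t
  let s' : Γ(L', W) := mres L' (le_trans hle inf_le_right) t'
  have hs : IsGen L W s := ht.restrict _
  have hs' : IsGen L' W s' := ht'.restrict _
  obtain ⟨r, hr⟩ := (VA.isGen_tm hs hs').exists_smul_eq le_rfl (η.inv.app W (show Γ(Coh.structureModule Y, W) from (1 : Γ(Y, W))))
  rw [mres_self] at hr
  have h1 : η.hom.app W (η.inv.app W (show Γ(Coh.structureModule Y, W) from (1 : Γ(Y, W)))) =
      (show Γ(Coh.structureModule Y, W) from (1 : Γ(Y, W))) := by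
    rw [← ConcreteCategory.comp_apply, ← Scheme.Modules.Hom.comp_app, η.inv_hom_id]
    rfl
  have h2 : r * pair η s s' = 1 := by
    rw [hr, Ample.app_smul] at h1
    exact h1
  refine ⟨⟨W, hW⟩, (r • s, s'), hxW, hs.smul_unit (IsUnit.of_mul_eq_one _ h2), hs', ?_⟩
  show pair η (r • s) s' = 1
  rw [← one_smul Γ(Y, W) s', pair_smul, mul_one]
  simpa using h2

end pair

/-- A section of an algebra attached to a section of a module. -/
def jsec {A : RelSpec.QCAlg Y} (j : L ⟶ A.toModule) {U : Y.Opens} (t : Γ(L, U)) : A.presheaf.obj (op U) :=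
  j.app U t

theorem jsec_smul {A : RelSpec.QCAlg Y} (j : L ⟶ A.toModule) {U : Y.Opens} (a : Γ(Y, U)) (t : Γ(L, U)) :
    jsec j (a • t) = (A.str.app (op U)).hom a * jsec j t :=
  Ample.app_smul j a t

theorem jsec_mres {A : RelSpec.QCAlg Y} (j : L ⟶ A.toModule) {U W : Y.Opens} (h : W ≤ U) (t : Γ(L, U)) :
    jsec j (mres L h t) = A.presheaf.map (homOfLE h).op (jsec j t) :=
  Ample.app_mres j h t

/-- The symmetric algebra of a free module of rank one over an affine open is a polynomial ring. -/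
theorem bijective_poly {A : RelSpec.QCAlg Y} {j : L ⟶ A.toModule} (hq : Coh.IsQCoh L) (hA : RelSpec.IsSymAlg L A j)
    (U : Y.AffineZariskiSite) {t : Γ(L, U.1)} (ht : IsGen L U.1 t) :
    Function.Bijective (Polynomial.eval₂RingHom (A.str.app (op U.1)).hom (jsec j t)) := by
  obtain ⟨e, hes, hej⟩ := SymAlgX.isAffSym_of_isSymAlg hq hA U.1 U.2
  have h1 := e.bijective.comp (bijective_eval₂_sym t (by have := ht U.1 le_rfl; rwa [mres_self] at this))
  have h2 : e.toRingHom.comp (Polynomial.eval₂RingHom (SymAlgX.str _ _) (SymAlgX.gen _ _ t)) =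
      Polynomial.eval₂RingHom (A.str.app (op U.1)).hom (jsec j t) := by
    refine Polynomial.ringHom_ext (fun r => ?_) ?_
    · simp only [RingHom.comp_apply, Polynomial.coe_eval₂RingHom, Polynomial.eval₂_C]
      exact hes r
    · simp only [RingHom.comp_apply, Polynomial.coe_eval₂RingHom, Polynomial.eval₂_X]
      exact hej t
  rw [← h2]
  exact h1

variable {𝒮 𝒮h : RelProj.QCGrAlg Y} {ι : 𝒮.toQCAlg ⟶ 𝒮h.toQCAlg} {z : 𝒮h.presheaf.obj (op ⊤)}
  (hz : RelCone.IsPolyOver 𝒮 𝒮h ι z) {j : L ⟶ 𝒮.toModule} (hS : RelProj.IsGrSymAlg L 𝒮 j) (hLq : Coh.IsQCoh L)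
  {𝒮' : RelSpec.QCAlg Y} {j' : L' ⟶ 𝒮'.toModule} (hS' : RelSpec.IsSymAlg L' 𝒮' j') (hL'q : Coh.IsQCoh L')

/-- The image in `𝒮[z]` of a section of the line bundle. -/
def tT (j : L ⟶ 𝒮.toModule) (U : Y.AffineZariskiSite) (t : Γ(L, U.1)) : 𝒮h.presheaf.obj (op U.1) :=
  gh hz U (jsec (A := 𝒮.toQCAlg) j t)

/-- Functions into `𝒮[z]`. -/
def sh (𝒮h : RelProj.QCGrAlg Y) (U : Y.AffineZariskiSite) : Γ(Y, U.1) →+* 𝒮h.presheaf.obj (op U.1) :=
  (𝒮h.str.app (op U.1)).hom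

/-- Functions into `𝒮'`. -/
def sp (𝒮' : RelSpec.QCAlg Y) (U : Y.AffineZariskiSite) : Γ(Y, U.1) →+* 𝒮'.presheaf.obj (op U.1) :=
  (𝒮'.str.app (op U.1)).hom

include hz in
theorem gh_str (U : Y.AffineZariskiSite) (r : Γ(Y, U.1)) :
    gh hz U ((𝒮.str.app (op U.1)).hom r) = sh 𝒮h U r :=
  ConcreteCategory.congr_hom (congrArg (fun t => t.app (op U.1)) ι.comm) r

theorem sh_mem (U : Y.AffineZariskiSite) (r : Γ(Y, U.1)) : sh 𝒮h U r ∈ 𝒮h.deg U.1 U.2 0 :=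
  𝒮h.str_mem U.1 U.2 r

include hS in
theorem jsec_mem (U : Y.AffineZariskiSite) (t : Γ(L, U.1)) :
    jsec (A := 𝒮.toQCAlg) j t ∈ 𝒮.deg U.1 U.2 1 :=
  hS.2 U.1 U.2 t

include hS in
theorem tT_mem (U : Y.AffineZariskiSite) (t : Γ(L, U.1)) : tT hz j U t ∈ 𝒮h.deg U.1 U.2 1 :=
  (gh hz U).2 (jsec_mem hS U t)

/-- The evaluation at dual generators. -/
structure IsEv (U : Y.AffineZariskiSite) (t : Γ(L, U.1)) (t' : Γ(L', U.1))
    (e : 𝒮h.presheaf.obj (op U.1) →+* 𝒮'.presheaf.obj (op U.1)) (j' : L' ⟶ 𝒮'.toModule) (j : L ⟶ 𝒮.toModule) : Prop where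
  str : ∀ r, e (sh 𝒮h U r) = sp 𝒮' U r
  gen : e (tT hz j U t) = 1
  var : e (zAt z U) = jsec j' t'

include hS hLq in
theorem exists_isEv (U : Y.AffineZariskiSite) {t : Γ(L, U.1)} (ht : IsGen L U.1 t) (t' : Γ(L', U.1)) :
    ∃ e, IsEv hz U t t' e j' j := by
  let q := RingEquiv.ofBijective _ (bijective_poly hLq hS.1 U ht)
  let g : 𝒮.presheaf.obj (op U.1) →+* 𝒮'.presheaf.obj (op U.1) :=
    (Polynomial.eval₂RingHom (sp 𝒮' U) 1).comp q.symm.toRingHom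
  refine ⟨(Polynomial.eval₂RingHom g (jsec j' t')).comp (hz.polyEquiv U.1 U.2).symm.toRingHom, ?_, ?_, ?_⟩
  all_goals
    have hι : ∀ a, (hz.polyEquiv U.1 U.2).symm (gh hz U a) = Polynomial.C a := fun a => by
      rw [RingEquiv.symm_apply_eq, RelCone.IsPolyOver.polyEquiv_apply, Polynomial.eval₂_C]
      rfl
  · intro r
    rw [← gh_str hz U r]
    show Polynomial.eval₂ g (jsec j' t') ((hz.polyEquiv U.1 U.2).symm (gh hz U _)) = _
    rw [hι, Polynomial.eval₂_C]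
    have hq : q (Polynomial.C r) = (𝒮.str.app (op U.1)).hom r := Polynomial.eval₂_C _ _
    show Polynomial.eval₂ (sp 𝒮' U) 1 (q.symm _) = _
    rw [← hq, RingEquiv.symm_apply_apply, Polynomial.eval₂_C]
  · show Polynomial.eval₂ g (jsec j' t') ((hz.polyEquiv U.1 U.2).symm (gh hz U _)) = _
    rw [hι, Polynomial.eval₂_C]
    have hq : q Polynomial.X = jsec (A := 𝒮.toQCAlg) j t := Polynomial.eval₂_X _ _
    show Polynomial.eval₂ (sp 𝒮' U) 1 (q.symm _) = _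
    rw [(RingEquiv.symm_apply_eq q).2 hq.symm, Polynomial.eval₂_X]
  · show Polynomial.eval₂ g (jsec j' t') ((hz.polyEquiv U.1 U.2).symm (zAt z U)) = _
    have hX : (hz.polyEquiv U.1 U.2).symm (zAt z U) = Polynomial.X := by
      rw [RingEquiv.symm_apply_eq, RelCone.IsPolyOver.polyEquiv_apply, Polynomial.eval₂_X]
    rw [hX, Polynomial.eval₂_X]

include hz hS hLq in
theorem gen_top (U : Y.AffineZariskiSite) {t : Γ(L, U.1)} (ht : IsGen L U.1 t) :
    Subring.closure (Set.range (sh 𝒮h U) ∪ {tT hz j U t, zAt z U}) = ⊤ := by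
  refine eq_top_iff.2 fun b _ => ?_
  obtain ⟨P, rfl⟩ := (hz.bij U.1 U.2).2 b
  show Polynomial.eval₂ _ _ P ∈ _
  rw [Polynomial.eval₂_eq_sum, Polynomial.sum_def]
  refine Subring.sum_mem _ fun i _ => Subring.mul_mem _ ?_ (pow_mem (Subring.subset_closure (by simp)) i)
  obtain ⟨Q, hQ⟩ := (bijective_poly hLq hS.1 U ht).2 (P.coeff i)
  rw [← hQ]
  show gh hz U (Polynomial.eval₂ _ _ Q) ∈ _
  rw [Polynomial.eval₂_eq_sum, Polynomial.sum_def, map_sum]
  refine Subring.sum_mem _ fun k _ => ?_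
  rw [map_mul, map_pow, gh_str]
  exact Subring.mul_mem _ (Subring.subset_closure (Or.inl ⟨_, rfl⟩))
    (pow_mem (Subring.subset_closure (by simp [tT])) k)

include hS hLq hS' hL'q in
theorem bijective_ev {U : Y.AffineZariskiSite} {t : Γ(L, U.1)} {t' : Γ(L', U.1)} (ht : IsGen L U.1 t)
    (ht' : IsGen L' U.1 t') {e} (he : IsEv hz U t t' e j' j) :
    Function.Bijective (evalAway (𝒮h.deg U.1 U.2) e (tT hz j U t) (isUnit_eval e he.gen)) :=
  bijective_evalAway (sh 𝒮h U) (sh_mem U) (tT_mem hz hS U t) (zAt_mem hz U) (gen_top hz hS hLq U ht)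
    (sp 𝒮' U) (jsec j' t') (bijective_poly hL'q hS' U ht') e he.str he.gen he.var

variable {PC : Scheme.{u}} {pC : PC ⟶ Y}
  {chartC : ∀ (U : Y.Opens) (hU : IsAffineOpen U), (((pC ⁻¹ᵁ U : PC.Opens) : Scheme.{u}) ≅ Proj (𝒮h.deg U hU))}
  (hPC : RelProj.IsRelProj 𝒮h pC chartC) (η : CohB1.tensorMod L L' ≅ Coh.structureModule Y)

/-- The local isomorphism onto the affine part of the chart. -/
def dmap (U : Y.AffineZariskiSite) (t : Γ(L, U.1)) (t' : Γ(L', U.1))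
    (e : 𝒮h.presheaf.obj (op U.1) →+* 𝒮'.presheaf.obj (op U.1)) (he : IsEv hz U t t' e j' j) (hS : RelProj.IsGrSymAlg L 𝒮 j) :
    Spec (𝒮'.presheaf.obj (op U.1)) ⟶ (RelCone.domOpen (gh hz U) : Scheme.{u}) :=
  Spec.map (CommRingCat.ofHom (evalAway (𝒮h.deg U.1 U.2) e (tT hz j U t) (isUnit_eval e he.gen))) ≫
    domChart (gh hz U) (jsec_mem hS U t) one_pos

@[reassoc]
theorem dmap_domEmb_ι (U : Y.AffineZariskiSite) (t : Γ(L, U.1)) (t' : Γ(L', U.1)) {e}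
    (he : IsEv hz U t t' e j' j) :
    dmap hz U t t' e he hS ≫ domEmb hz hPC U ≫ (Ehat hz pC chartC).ι =
      Spec.map (CommRingCat.ofHom (evalAway (𝒮h.deg U.1 U.2) e (tT hz j U t) (isUnit_eval e he.gen))) ≫
        Proj.awayι (𝒮h.deg U.1 U.2) (tT hz j U t) (tT_mem hz hS U t) one_pos ≫ RelProj.emb pC chartC U.1 U.2 := by
  rw [dmap, Category.assoc, RelCone8.domEmb_ι, RelCone8.domChart_ι_assoc]
  rfl

include hS hLq hPC in
theorem dmap_compat {U W : Y.AffineZariskiSite} (h : W ≤ U) {t : Γ(L, U.1)} {t' : Γ(L', U.1)}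
    {s : Γ(L, W.1)} {s' : Γ(L', W.1)} (ht : IsGood η U (t, t')) (hs : IsGood η W (s, s'))
    {e} (he : IsEv hz U t t' e j' j) {e'} (he' : IsEv hz W s s' e' j' j) :
    Spec.map (rz 𝒮' h) ≫ dmap hz U t t' e he hS ≫ domEmb hz hPC U =
      dmap hz W s s' e' he' hS ≫ domEmb hz hPC W := by
  have hle := Scheme.AffineZariskiSite.toOpens_mono h
  obtain ⟨a, ha⟩ := hs.1.exists_smul_eq le_rfl (mres L hle t)
  obtain ⟨b, hb⟩ := hs.2.1.exists_smul_eq le_rfl (mres L' hle t')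
  rw [mres_self] at ha hb
  have hab : a * b = 1 := by
    have h1 := (ht.mono η h).2.2
    simp only at h1
    rw [ha, hb, pair_smul, hs.2.2, mul_one] at h1
    exact h1
  let φ : 𝒮h.deg U.1 U.2 →+*ᵍ 𝒮h.deg W.1 W.2 := RelProjK.rs 𝒮h h
  have hφT : φ (tT hz j U t) = sh 𝒮h W a * tT hz j W s := by
    show RelProjK.rs 𝒮h h (gh hz U _) = _
    rw [RelCone8.gradedHomAt_res hz h]
    show gh hz W (𝒮.presheaf.map (homOfLE hle).op (jsec (A := 𝒮.toQCAlg) j t)) = _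
    rw [← jsec_mres (A := 𝒮.toQCAlg) j hle t, ha, jsec_smul, map_mul, gh_str]
    rfl
  have hφZ : φ (zAt z U) = zAt z W := by
    show (𝒮h.presheaf.map (homOfLE hle).op).hom ((𝒮h.presheaf.map (homOfLE le_top).op).hom z) = _
    rw [← ConcreteCategory.comp_apply, ← Functor.map_comp]
    rfl
  have hφr : ∀ r, φ (sh 𝒮h U r) = sh 𝒮h W (fres Y hle r) := fun r =>
    (ConcreteCategory.congr_hom (𝒮h.str.naturality (homOfLE hle).op) r).symm
  have hX : (rz 𝒮' h).hom (jsec j' t') = sp 𝒮' W b * jsec j' s' := by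
    show 𝒮'.presheaf.map (homOfLE hle).op (jsec j' t') = _
    rw [← jsec_mres j' hle t', hb, jsec_smul]
    rfl
  have hr : ∀ r, (rz 𝒮' h).hom (sp 𝒮' U r) = sp 𝒮' W (fres Y hle r) := fun r =>
    (ConcreteCategory.congr_hom (𝒮'.str.naturality (homOfLE hle).op) r).symm
  have hA : IsUnit (sp 𝒮' W a) := (IsUnit.of_mul_eq_one _ hab).map _
  have hT' : e' (φ (tT hz j U t)) = sp 𝒮' W a := by rw [hφT, map_mul, he'.str, he'.gen, mul_one]
  have hu2 : IsUnit (e' (φ (tT hz j U t))) := hT'.symm ▸ hA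
  have htw : ∀ n, ∀ x ∈ 𝒮h.deg U.1 U.2 n, (e'.comp φ.toRingHom) x = sp 𝒮' W a ^ n * ((rz 𝒮' h).hom.comp e) x :=
    eval_twist (sh 𝒮h U) (sh_mem U) (tT_mem hz hS U t) (zAt_mem hz U) (gen_top hz hS hLq U ht.1)
      ((sp 𝒮' W).comp (Y.presheaf.map (homOfLE hle).op).hom) ((rz 𝒮' h).hom (jsec j' t')) ((rz 𝒮' h).hom.comp e)
      (fun r => by rw [RingHom.comp_apply, he.str]; exact hr r)
      (by rw [RingHom.comp_apply, he.gen, map_one])
      (by rw [RingHom.comp_apply, he.var])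
      (e'.comp φ.toRingHom) (sp 𝒮' W a)
      (fun r => by show e' (φ _) = _; rw [hφr, he'.str]; rfl)
      hT'
      (by show e' (φ _) = _; rw [hφZ, he'.var, hX, ← mul_assoc, ← map_mul, hab, map_one, one_mul])
  rw [← cancel_mono (Ehat hz pC chartC).ι]
  simp only [Category.assoc, dmap_domEmb_ι]
  rw [← Spec.map_comp_assoc]
  have key : (CommRingCat.ofHom (evalAway (𝒮h.deg U.1 U.2) e (tT hz j U t) (isUnit_eval e he.gen)) ≫ rz 𝒮' h) =
      CommRingCat.ofHom (evalAway (𝒮h.deg U.1 U.2) (e'.comp φ.toRingHom) (tT hz j U t) hu2) := by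
    refine CommRingCat.hom_ext ?_
    show (rz 𝒮' h).hom.comp (evalAway _ e _ _) = evalAway _ _ _ _
    rw [ProjPt.comp_evalAway (𝒮h.deg U.1 U.2) (rz 𝒮' h).hom e (tT_mem hz hS U t)]
    exact (ProjPt.evalAway_eq_of_twist (𝒮h.deg U.1 U.2) _ _ (tT_mem hz hS U t) _ _ _ htw).symm
  rw [key, ← reassoc_of% (specMap_evalAway_map φ (RelProjK.rs_irr 𝒮h h) e' (tT_mem hz hS U t) one_pos hu2)]
  rw [show Proj.map φ (RelProjK.rs_irr 𝒮h h) ≫ RelProj.emb pC chartC U.1 U.2 = RelProj.emb pC chartC W.1 W.2 from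
    RelProjK.map_rs_em hPC h]
  refine (Category.assoc _ _ _).symm.trans ((congrArg (· ≫ RelProj.emb pC chartC W.1 W.2)
    (specMap_evalAway_awayι_eq e' (φ.2 (tT_mem hz hS U t)) one_pos (tT_mem hz hS W s) one_pos hu2
    (isUnit_eval e' he'.gen))).trans (Category.assoc _ _ _))

theorem dmap_comp (U : Y.AffineZariskiSite) (t : Γ(L, U.1)) (t' : Γ(L', U.1)) {e}
    (he : IsEv hz U t t' e j' j) :
    dmap hz U t t' e he hS ≫ domEmb hz hPC U ≫ (Ehat hz pC chartC).ι ≫ pC = 𝒮'.ι U.1 U.2 ≫ 𝒮'.π := by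
  rw [reassoc_of% (dmap_domEmb_ι hz hS hPC U t t' he), RelCone8.emb_comp hPC, Proj.awayι_toSpecZero_assoc,
    RelSpec.QCAlg.ι_π, ← Spec.map_comp_assoc, ← Spec.map_comp_assoc]
  congr 2
  refine CommRingCat.hom_ext (RingHom.ext fun x => ?_)
  have e0 : fromZeroRingHom (𝒮h.deg U.1 U.2) (Submonoid.powers (tT hz j U t)) ((𝒮h.strZero U.1 U.2).hom x) =
      Away.mk (𝒮h.deg U.1 U.2) (tT_mem hz hS U t) 0 ((𝒮h.str.app (op U.1)).hom x)
        (by simpa using 𝒮h.str_mem U.1 U.2 x) := by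
    ext
    simp [fromZeroRingHom, HomogeneousLocalization.val_mk, Away.val_mk]
    rfl
  show evalAway _ e _ (isUnit_eval e he.gen) (fromZeroRingHom (𝒮h.deg U.1 U.2) _ ((𝒮h.strZero U.1 U.2).hom x)) = _
  rw [e0]
  have h1 := ProjPt.evalAway_mk_spec (𝒮h.deg U.1 U.2) e (tT_mem hz hS U t) (isUnit_eval e he.gen) 0
    ((𝒮h.str.app (op U.1)).hom x) (by simpa using 𝒮h.str_mem U.1 U.2 x)
  rw [pow_zero, mul_one] at h1
  exact h1.trans (he.str x)

include hS hLq in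
theorem opensRange_domChart_top (U : Y.AffineZariskiSite) {t : Γ(L, U.1)} (ht : IsGen L U.1 t) :
    (domChart (gh hz U) (jsec_mem hS U t) one_pos).opensRange = ⊤ := by
  classical
  rw [RelCone8.opensRange_domChart]
  refine eq_top_iff.2 fun x _ => ?_
  show x.1 ∈ Proj.basicOpen (𝒮h.deg U.1 U.2) (gh hz U (jsec (A := 𝒮.toQCAlg) j t))
  obtain ⟨g, hg, hgx⟩ := (RelCone.mem_domOpen _ _).1 x.2
  intro hf
  obtain ⟨P, hP⟩ := (bijective_poly hLq hS.1 U ht).2 g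
  let f := jsec (A := 𝒮.toQCAlg) j t
  let Q := Polynomial.eval₂ (𝒮.str.app (op U.1)).hom f P.divX
  have hPg : g = Q * f + (𝒮.str.app (op U.1)).hom (P.coeff 0) := by
    rw [← hP]
    show Polynomial.eval₂ _ _ P = _
    conv_lhs => rw [← Polynomial.divX_mul_X_add P]
    rw [Polynomial.eval₂_add, Polynomial.eval₂_mul, Polynomial.eval₂_X, Polynomial.eval₂_C]
  have hfi : f ∈ (HomogeneousIdeal.irrelevant (𝒮.deg U.1 U.2)).toIdeal :=
    HomogeneousIdeal.mem_irrelevant_of_mem _ one_pos (jsec_mem hS U t)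
  have hc : (𝒮.str.app (op U.1)).hom (P.coeff 0) = 0 := by
    have hci : (𝒮.str.app (op U.1)).hom (P.coeff 0) ∈ (HomogeneousIdeal.irrelevant (𝒮.deg U.1 U.2)).toIdeal :=
      (Submodule.add_mem_iff_right _ (Ideal.mul_mem_left _ Q hfi)).1 (hPg ▸ hg)
    have h0 := (HomogeneousIdeal.mem_irrelevant_iff _ _).1 hci
    rw [GradedRing.proj_apply, DirectSum.decompose_of_mem_same _ (𝒮.str_mem U.1 U.2 _)] at h0
    exact h0
  refine hgx ?_
  rw [hPg, hc, add_zero, map_mul]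
  exact Ideal.mul_mem_left _ _ hf

include hS hLq hS' hL'q in
theorem isIso_dmap (U : Y.AffineZariskiSite) (t : Γ(L, U.1)) (t' : Γ(L', U.1)) (ht : IsGen L U.1 t)
    (ht' : IsGen L' U.1 t') {e} (he : IsEv hz U t t' e j' j) : IsIso (dmap hz U t t' e he hS) := by
  have h1 : IsIso (CommRingCat.ofHom (evalAway (𝒮h.deg U.1 U.2) e (tT hz j U t) (isUnit_eval e he.gen))) :=
    (ConcreteCategory.isIso_iff_bijective _).2 (bijective_ev hz hS hLq hS' hL'q ht ht' he)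
  have h2 : IsIso (domChart (gh hz U) (jsec_mem hS U t) one_pos) := by
    rw [isIso_iff_isOpenImmersion_and_epi_base]
    refine ⟨inferInstance, (TopCat.epi_iff_surjective _).2 fun x => ?_⟩
    have hx : x ∈ (domChart (gh hz U) (jsec_mem hS U t) one_pos).opensRange := by
      rw [opensRange_domChart_top hz hS hLq U ht]; trivial
    exact hx
  unfold dmap
  infer_instance

include hz hS hLq hS' hL'q hPC in
theorem exists_iso (hL : PicF.IsInvertible L) (hL' : PicF.IsInvertible L') (η : CohB1.tensorMod L L' ≅ Coh.structureModule Y) :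
    ∃ e : 𝒮'.spec ≅ ((RelCone.pointedProjCone 𝒮 hz pC chartC : PC.Opens) : Scheme.{u}),
      e.hom ≫ (RelCone.pointedProjCone 𝒮 hz pC chartC).ι ≫ pC = 𝒮'.π := by
  classical
  let I := Σ U : Y.AffineZariskiSite, {p : Γ(L, U.1) × Γ(L', U.1) // IsGood η U p}
  have hev : ∀ i : I, ∃ e, IsEv hz i.1 i.2.1.1 i.2.1.2 e j' j := fun i => exists_isEv hz hS hLq i.1 i.2.2.1 i.2.1.2
  choose e he using hev
  have hmem : ∀ x : 𝒮'.spec, ∃ i : I, ∃ y, 𝒮'.ι i.1.1 i.1.2 y = x := fun x => by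
    obtain ⟨U, p, hx, hp⟩ := exists_good η hL hL' (𝒮'.π x)
    exact ⟨⟨U, p, hp⟩, RelCone8.exists_ι_eq 𝒮' U.1 U.2 x hx⟩
  let 𝒰 : 𝒮'.spec.OpenCover := Scheme.Cover.mkOfCovers I (fun i => Spec (𝒮'.presheaf.obj (op i.1.1)))
    (fun i => 𝒮'.ι i.1.1 i.1.2) hmem (fun i => inferInstance)
  let g : ∀ i : I, Spec (𝒮'.presheaf.obj (op i.1.1)) ⟶ (Ehat hz pC chartC : Scheme.{u}) :=
    fun i => dmap hz i.1 i.2.1.1 i.2.1.2 (e i) (he i) hS ≫ domEmb hz hPC i.1
  have hcompat : ∀ i k : I, pullback.fst (𝒮'.ι i.1.1 i.1.2) (𝒮'.ι k.1.1 k.1.2) ≫ g i =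
      pullback.snd (𝒮'.ι i.1.1 i.1.2) (𝒮'.ι k.1.1 k.1.2) ≫ g k := by
    intro i k
    let J := {W : Y.AffineZariskiSite // W ≤ i.1 ∧ W ≤ k.1}
    let b : ∀ W : J, Spec (𝒮'.presheaf.obj (op W.1.1)) ⟶ pullback (𝒮'.ι i.1.1 i.1.2) (𝒮'.ι k.1.1 k.1.2) :=
      fun W => pullback.lift (Spec.map (rz 𝒮' W.2.1)) (Spec.map (rz 𝒮' W.2.2))
        ((map_rz_ι 𝒮' W.2.1).trans (map_rz_ι 𝒮' W.2.2).symm)
    let π₀ := pullback.fst (𝒮'.ι i.1.1 i.1.2) (𝒮'.ι k.1.1 k.1.2) ≫ 𝒮'.ι i.1.1 i.1.2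
    have hb : ∀ W : J, b W ≫ π₀ = 𝒮'.ι W.1.1 W.1.2 := fun W => by
      rw [pullback.lift_fst_assoc, map_rz_ι]
    have hbo : ∀ W : J, IsOpenImmersion (b W) := fun W => by
      have : IsOpenImmersion (b W ≫ π₀) := by rw [hb]; infer_instance
      exact IsOpenImmersion.of_comp _ π₀
    have hbc : ∀ x, ∃ (W : J) (y : _), b W y = x := fun x => by
      let x₀ : 𝒮'.spec := π₀ x
      have hi : 𝒮'.π x₀ ∈ i.1.1 :=
        RelCone8.π_ι_mem 𝒮' i.1.1 i.1.2 (pullback.fst (𝒮'.ι i.1.1 i.1.2) (𝒮'.ι k.1.1 k.1.2) x)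
      have hk : 𝒮'.π x₀ ∈ k.1.1 := by
        have : x₀ = 𝒮'.ι k.1.1 k.1.2 (pullback.snd (𝒮'.ι i.1.1 i.1.2) (𝒮'.ι k.1.1 k.1.2) x) :=
          ConcreteCategory.congr_hom (congrArg (fun t : pullback (𝒮'.ι i.1.1 i.1.2) (𝒮'.ι k.1.1 k.1.2) ⟶ 𝒮'.spec => t.base) pullback.condition) x
        rw [this]
        exact RelCone8.π_ι_mem 𝒮' _ _ _
      obtain ⟨W, hWi, hWk, hW⟩ := RelCone8.exists_le_le i.1 k.1 hi hk
      obtain ⟨w, hw⟩ := RelCone8.exists_ι_eq 𝒮' W.1 W.2 x₀ hW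
      refine ⟨⟨W, hWi, hWk⟩, w, π₀.isOpenEmbedding.injective ?_⟩
      show (b ⟨W, hWi, hWk⟩ ≫ π₀) w = x₀
      rw [hb]
      exact hw
    let 𝒲 : (pullback (𝒮'.ι i.1.1 i.1.2) (𝒮'.ι k.1.1 k.1.2)).OpenCover := Scheme.Cover.mkOfCovers J
      (fun W => Spec (𝒮'.presheaf.obj (op W.1.1))) b hbc hbo
    refine 𝒲.hom_ext _ _ fun (W : J) => ?_
    show b W ≫ _ = b W ≫ _
    rw [pullback.lift_fst_assoc, pullback.lift_snd_assoc]
    obtain ⟨e', he'⟩ := exists_isEv hz hS hLq W.1 (t' := mres L' (Scheme.AffineZariskiSite.toOpens_mono W.2.1) i.2.1.2)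
      (i.2.2.mono η W.2.1).1
    exact (dmap_compat hz hS hLq hPC η W.2.1 i.2.2 (i.2.2.mono η W.2.1) (he i) he').trans
      (dmap_compat hz hS hLq hPC η W.2.2 k.2.2 (i.2.2.mono η W.2.1) (he k) he').symm
  let h : 𝒮'.spec ⟶ (Ehat hz pC chartC : Scheme.{u}) := 𝒰.glueMorphisms g hcompat
  have hh : ∀ i : I, 𝒮'.ι i.1.1 i.1.2 ≫ h = g i := fun i => 𝒰.ι_glueMorphisms g hcompat i
  have hπ : h ≫ (Ehat hz pC chartC).ι ≫ pC = 𝒮'.π := 𝒰.hom_ext _ _ fun (i : I) => by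
    show 𝒮'.ι i.1.1 i.1.2 ≫ h ≫ _ = 𝒮'.ι i.1.1 i.1.2 ≫ _
    rw [reassoc_of% (hh i)]
    exact (Category.assoc _ _ _).trans (dmap_comp hz hS hPC i.1 i.2.1.1 i.2.1.2 (he i))
  have hpb : ∀ i : I, IsPullback (𝒮'.ι i.1.1 i.1.2) (dmap hz i.1 i.2.1.1 i.2.1.2 (e i) (he i) hS) h
      (domEmb hz hPC i.1) := fun i => by
    have := isIso_dmap hz hS hLq hS' hL'q i.1 i.2.1.1 i.2.1.2 i.2.2.1 i.2.2.2.1 (he i)
    refine (IsOpenImmersion.isPullback _ _ _ _ (hh i) ?_).flip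
    rw [RelCone8.opensRange_domEmb, ← RelSpec.QCAlg.π_preimage, ← Scheme.Hom.comp_preimage, hπ]
  have hiso : IsIso h := RelCone8.property_of_isPullback (MorphismProperty.isomorphisms Scheme) (fun i : I => domEmb hz hPC i.1)
    (fun x => by
      obtain ⟨U, p, hx, hp⟩ := exists_good η hL hL' (((Ehat hz pC chartC).ι ≫ pC) x)
      refine ⟨⟨U, p, hp⟩, ?_⟩
      have hx' : x ∈ (domEmb hz hPC U).opensRange := by rw [RelCone8.opensRange_domEmb]; exact hx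
      exact hx')
    _ _ hpb fun i => isIso_dmap hz hS hLq hS' hL'q i.1 i.2.1.1 i.2.1.2 i.2.2.1 i.2.2.2.1 (he i)
  exact ⟨asIso h, hπ⟩

end GrothLib.ConeInv10
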