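import Groth.Agent.Lib.ConeInv10.Alg
import Mathlib.AlgebraicGeometry.ProjectiveSpectrum.Functor

/-!
# Maps of `Proj` do not see a twist of the graded homomorphism by a unit of degree zero
-/

set_option autoImplicit false
set_option linter.all false
set_option backward.isDefEq.respectTransparency false

universe u

open CategoryTheory AlgebraicGeometry HomogeneousLocalization

noncomputable section

namespace GrothLib.ConeInv10

variable {A B σ τ : Type u} [CommRing A] [SetLike σ A] [AddSubgroupClass σ A] {𝒜 : ℕ → σ} [GradedRing 𝒜]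
  [CommRing B] [SetLike τ B] [AddSubgroupClass τ B] {ℬ : ℕ → τ} [GradedRing ℬ]

theorem proj_map_eq_of_twist (f g : 𝒜 →+*ᵍ ℬ)
    (hf : HomogeneousIdeal.irrelevant ℬ ≤ (HomogeneousIdeal.irrelevant 𝒜).map f)
    (hg : HomogeneousIdeal.irrelevant ℬ ≤ (HomogeneousIdeal.irrelevant 𝒜).map g)
    {c d : B} (hc : c ∈ ℬ 0) (hd : d ∈ ℬ 0) (hcd : c * d = 1)
    (h : ∀ n, ∀ a ∈ 𝒜 n, f a = c ^ n * g a) : Proj.map f hf = Proj.map g hg := by
  refine (Proj.mapAffineOpenCover g hg).openCover.hom_ext _ _ fun j => ?_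
  simp only [Scheme.AffineOpenCover.openCover_f, Proj.mapAffineOpenCover_f]
  obtain ⟨⟨n, hn⟩, ⟨s, hs⟩⟩ := j
  replace hs : s ∈ 𝒜 n := hs
  show Proj.awayι ℬ (g s) (g.2 hs) hn ≫ _ = Proj.awayι ℬ (g s) (g.2 hs) hn ≫ _
  have hfs : f s ∈ ℬ n := f.2 hs
  have hdn : d ^ n ∈ ℬ 0 := by
    have := SetLike.pow_mem_graded n hd
    rwa [smul_zero] at this
  have hx : g s = f s * d ^ n := by
    rw [h n s hs, mul_right_comm, ← mul_pow, hcd, one_pow, one_mul]
  have h1 : Proj.awayι ℬ (g s) (g.2 hs) hn =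
      Spec.map (CommRingCat.ofHom (awayMap ℬ hdn hx)) ≫ Proj.awayι ℬ (f s) hfs hn := by
    rw [Proj.SpecMap_awayMap_awayι]
  conv_lhs => rw [h1, Category.assoc, Proj.awayι_comp_map f hf hn s hs, ← Spec.map_comp_assoc, ← CommRingCat.ofHom_comp]
  rw [Proj.awayι_comp_map g hg hn s hs]
  congr 3
  refine RingHom.ext fun w => ?_
  obtain ⟨k, a, ha, rfl⟩ := Away.mk_surjective 𝒜 hs w
  apply val_injective
  rw [RingHom.comp_apply, Away.map_mk f s hs, awayMap_mk, Away.map_mk g s hs, Away.val_mk, Away.val_mk]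
  congr 1
  rw [h _ a ha, smul_eq_mul, ← pow_mul, mul_comm n k, mul_right_comm, ← mul_pow, hcd, one_pow, one_mul]

end GrothLib.ConeInv10
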