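import Groth.Agent.Lib.ConeInv10.Main
import Groth.Agent.Lib.ConeInv10.Twist

/-!
# The projective closures of a line bundle and of its inverse, exchanging zero and infinity
-/

set_option autoImplicit false
set_option linter.all false
set_option backward.isDefEq.respectTransparency false
set_option maxHeartbeats 800000

universe u

open CategoryTheory CategoryTheory.Limits AlgebraicGeometry TopologicalSpace Opposite HomogeneousLocalization
open GrothLib.InvExt (mres fres IsGen mres_smul mres_self mres_mres)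
open GrothLib.RelCone8 (gh zAt zAt_mem emb_comp opensRange_emb')
open scoped HomogeneousIdeal

noncomputable section

namespace GrothLib.ConeInv10

variable {Y : Scheme.{u}} {L L' : Y.Modules}

section hom

variable {𝒮 𝒮h : RelProj.QCGrAlg Y} {ι : 𝒮.toQCAlg ⟶ 𝒮h.toQCAlg} {z : 𝒮h.presheaf.obj (op ⊤)}
  (hz : RelCone.IsPolyOver 𝒮 𝒮h ι z) {j : L ⟶ 𝒮.toModule} (hS : RelProj.IsGrSymAlg L 𝒮 j) (hLq : Coh.IsQCoh L)
  (U : Y.AffineZariskiSite) {t : Γ(L, U.1)} (ht : IsGen L U.1 t)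
  {C : Type u} [CommRing C] (σ' : Γ(Y, U.1) →+* C) (u v : C)

include hS hLq ht in
theorem exists_polyHom : ∃ e : 𝒮h.presheaf.obj (op U.1) →+* C,
    (∀ r, e (sh 𝒮h U r) = σ' r) ∧ e (tT hz j U t) = u ∧ e (zAt z U) = v := by
  let q := RingEquiv.ofBijective _ (bijective_poly hLq hS.1 U ht)
  let g : 𝒮.presheaf.obj (op U.1) →+* C := (Polynomial.eval₂RingHom σ' u).comp q.symm.toRingHom
  have hι : ∀ a, (hz.polyEquiv U.1 U.2).symm (gh hz U a) = Polynomial.C a := fun a => by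
    rw [RingEquiv.symm_apply_eq, RelCone.IsPolyOver.polyEquiv_apply, Polynomial.eval₂_C]
    rfl
  refine ⟨(Polynomial.eval₂RingHom g v).comp (hz.polyEquiv U.1 U.2).symm.toRingHom, fun r => ?_, ?_, ?_⟩
  · rw [← gh_str hz U r]
    show Polynomial.eval₂ g v ((hz.polyEquiv U.1 U.2).symm (gh hz U _)) = _
    rw [hι, Polynomial.eval₂_C]
    have hq : q (Polynomial.C r) = (𝒮.str.app (op U.1)).hom r := Polynomial.eval₂_C _ _
    show Polynomial.eval₂ σ' u (q.symm _) = _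
    rw [← hq, RingEquiv.symm_apply_apply, Polynomial.eval₂_C]
  · show Polynomial.eval₂ g v ((hz.polyEquiv U.1 U.2).symm (gh hz U _)) = _
    rw [hι, Polynomial.eval₂_C]
    have hq : q Polynomial.X = jsec (A := 𝒮.toQCAlg) j t := Polynomial.eval₂_X _ _
    show Polynomial.eval₂ σ' u (q.symm _) = _
    rw [(RingEquiv.symm_apply_eq q).2 hq.symm, Polynomial.eval₂_X]
  · show Polynomial.eval₂ g v ((hz.polyEquiv U.1 U.2).symm (zAt z U)) = _
    have hX : (hz.polyEquiv U.1 U.2).symm (zAt z U) = Polynomial.X := by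
      rw [RingEquiv.symm_apply_eq, RelCone.IsPolyOver.polyEquiv_apply, Polynomial.eval₂_X]
    rw [hX, Polynomial.eval₂_X]

include hz hS hLq ht in
/-- Homogeneous sections are monomials in the two variables. -/
theorem poly_induction (P : ℕ → 𝒮h.presheaf.obj (op U.1) → Prop) (hzero : ∀ n, P n 0)
    (hadd : ∀ n a b, P n a → P n b → P n (a + b)) (hneg : ∀ n a, P n a → P n (-a))
    (hbase : ∀ r, P 0 (sh 𝒮h U r)) (hT : P 1 (tT hz j U t)) (hZ : P 1 (zAt z U))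
    (hmul : ∀ m n a b, a ∈ 𝒮h.deg U.1 U.2 m → b ∈ 𝒮h.deg U.1 U.2 n → P m a → P n b → P (m + n) (a * b))
    (n : ℕ) (a : 𝒮h.presheaf.obj (op U.1)) (ha : a ∈ 𝒮h.deg U.1 U.2 n) : P n a := by
  refine graded_induction (sh 𝒮h U) {tT hz j U t, zAt z U}
    (by rintro x (rfl | rfl); exacts [tT_mem hz hS U t, zAt_mem hz U]) (gen_top hz hS hLq U ht) P hzero hadd hneg hbase
    (by rintro x (rfl | rfl); exacts [hT, hZ]) hmul ?_ (sh_mem U) n a ha
  have := hbase 1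
  rwa [map_one] at this

include hz hS hLq ht in
theorem polyHom_ext {e₁ e₂ : 𝒮h.presheaf.obj (op U.1) →+* C} (h0 : ∀ r, e₁ (sh 𝒮h U r) = e₂ (sh 𝒮h U r))
    (h1 : e₁ (tT hz j U t) = e₂ (tT hz j U t)) (h2 : e₁ (zAt z U) = e₂ (zAt z U)) : e₁ = e₂ := by
  refine RingHom.ext fun b => ?_
  have hle : Subring.closure (Set.range (sh 𝒮h U) ∪ {tT hz j U t, zAt z U}) ≤ e₁.eqLocus e₂ := by
    rw [Subring.closure_le]
    rintro x (⟨r, rfl⟩ | rfl | rfl)
    exacts [h0 r, h1, h2]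
  exact hle (by rw [gen_top hz hS hLq U ht]; trivial)

end hom

variable {𝒮 𝒮h : RelProj.QCGrAlg Y} {ι : 𝒮.toQCAlg ⟶ 𝒮h.toQCAlg} {z : 𝒮h.presheaf.obj (op ⊤)}
  (hz : RelCone.IsPolyOver 𝒮 𝒮h ι z) {j : L ⟶ 𝒮.toModule} (hS : RelProj.IsGrSymAlg L 𝒮 j) (hLq : Coh.IsQCoh L)
  {𝒮' 𝒮h' : RelProj.QCGrAlg Y} {ι' : 𝒮'.toQCAlg ⟶ 𝒮h'.toQCAlg} {z' : 𝒮h'.presheaf.obj (op ⊤)}
  (hz' : RelCone.IsPolyOver 𝒮' 𝒮h' ι' z') {j' : L' ⟶ 𝒮'.toModule} (hS' : RelProj.IsGrSymAlg L' 𝒮' j')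
  (hL'q : Coh.IsQCoh L')

/-- A graded homomorphism exchanging the fibre coordinate and the coordinate at infinity. -/
structure IsSwap (U : Y.AffineZariskiSite) (t : Γ(L, U.1)) (t' : Γ(L', U.1))
    (ψ : 𝒮h'.deg U.1 U.2 →+*ᵍ 𝒮h.deg U.1 U.2) : Prop where
  str : ∀ r, ψ (sh 𝒮h' U r) = sh 𝒮h U r
  gen : ψ (tT hz' j' U t') = zAt z U
  var : ψ (zAt z' U) = tT hz j U t

include hS hS' hL'q in
theorem exists_swap (U : Y.AffineZariskiSite) (t : Γ(L, U.1)) {t' : Γ(L', U.1)} (ht' : IsGen L' U.1 t') :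
    ∃ ψ, IsSwap hz (j := j) hz' (j' := j') U t t' ψ := by
  obtain ⟨e, h0, h1, h2⟩ := exists_polyHom hz' hS' hL'q U ht' (sh 𝒮h U) (zAt z U) (tT hz j U t)
  have hdeg : ∀ (n : ℕ) (a : 𝒮h'.presheaf.obj (op U.1)), a ∈ 𝒮h'.deg U.1 U.2 n → e a ∈ 𝒮h.deg U.1 U.2 n :=
    poly_induction hz' hS' hL'q U ht' (fun n a => e a ∈ 𝒮h.deg U.1 U.2 n)
      (fun n => by rw [map_zero]; exact zero_mem _) (fun n a b ha hb => by rw [map_add]; exact add_mem ha hb)
      (fun n a ha => by rw [map_neg]; exact neg_mem ha) (fun r => by rw [h0]; exact sh_mem U r)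
      (by rw [h1]; exact zAt_mem hz U) (by rw [h2]; exact tT_mem hz hS U t)
      (fun m n a b _ _ ha hb => by rw [map_mul]; exact SetLike.mul_mem_graded ha hb)
  exact ⟨⟨e, fun {n a} ha => hdeg n a ha⟩, h0, h1, h2⟩

include hS' hL'q in
theorem swap_comp {U : Y.AffineZariskiSite} {t : Γ(L, U.1)} {t' : Γ(L', U.1)} (ht' : IsGen L' U.1 t') {ψ} {φ}
    (hψ : IsSwap hz (j := j) hz' (j' := j') U t t' ψ) (hφ : IsSwap hz' (j := j') hz (j' := j) U t' t φ) :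
    φ.comp ψ = GradedRingHom.id (𝒮h'.deg U.1 U.2) := by
  refine GradedRingHom.ext fun b => ?_
  refine RingHom.congr_fun (f := φ.toRingHom.comp ψ.toRingHom) (g := RingHom.id _) ?_ b
  refine polyHom_ext hz' hS' hL'q U ht' (fun r => ?_) ?_ ?_
  · show φ (ψ _) = _
    rw [hψ.str, hφ.str]; rfl
  · show φ (ψ _) = _
    rw [hψ.gen, hφ.var]; rfl
  · show φ (ψ _) = _
    rw [hψ.var, hφ.gen]; rfl

include hS hS' hLq hL'q in
theorem swap_irr {U : Y.AffineZariskiSite} {t : Γ(L, U.1)} {t' : Γ(L', U.1)} (ht : IsGen L U.1 t)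
    (ht' : IsGen L' U.1 t') {ψ} (hψ : IsSwap hz (j := j) hz' (j' := j') U t t' ψ) :
    (𝒮h.deg U.1 U.2)₊ ≤ ((𝒮h'.deg U.1 U.2)₊).map ψ := by
  obtain ⟨φ, hφ⟩ := exists_swap hz' hS' hz hS hLq U t' ht
  have h := swap_comp hz' hz hS hLq ht hφ hψ
  intro b hb
  have hb' : φ b ∈ (𝒮h'.deg U.1 U.2)₊.toIdeal := RelCone8.map_mem_irrelevant φ hb
  have : ψ (φ b) = b := DFunLike.congr_fun h b
  rw [← this]
  exact Ideal.mem_map_of_mem _ hb'

include hS hS' hLq hL'q in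
theorem isIso_swap {U : Y.AffineZariskiSite} {t : Γ(L, U.1)} {t' : Γ(L', U.1)} (ht : IsGen L U.1 t)
    (ht' : IsGen L' U.1 t') {ψ} (hψ : IsSwap hz (j := j) hz' (j' := j') U t t' ψ) :
    IsIso (Proj.map ψ (swap_irr hz hS hLq hz' hS' hL'q ht ht' hψ)) := by
  obtain ⟨φ, hφ⟩ := exists_swap hz' hS' hz hS hLq U t' ht
  refine ⟨Proj.map φ (swap_irr hz' hS' hL'q hz hS hLq ht' ht hφ), ?_, ?_⟩
  · rw [← Proj.map_comp]
    simp only [swap_comp hz' hz hS hLq ht hφ hψ]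
    exact Proj.map_id
  · rw [← Proj.map_comp]
    simp only [swap_comp hz hz' hS' hL'q ht' hψ hφ]
    exact Proj.map_id

variable {PC : Scheme.{u}} {pC : PC ⟶ Y}
  {chartC : ∀ (U : Y.Opens) (hU : IsAffineOpen U), (((pC ⁻¹ᵁ U : PC.Opens) : Scheme.{u}) ≅ Proj (𝒮h.deg U hU))}
  (hPC : RelProj.IsRelProj 𝒮h pC chartC)
  {PC' : Scheme.{u}} {pC' : PC' ⟶ Y}
  {chartC' : ∀ (U : Y.Opens) (hU : IsAffineOpen U), (((pC' ⁻¹ᵁ U : PC'.Opens) : Scheme.{u}) ≅ Proj (𝒮h'.deg U hU))}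
  (hPC' : RelProj.IsRelProj 𝒮h' pC' chartC')
  (η : CohB1.tensorMod L L' ≅ Coh.structureModule Y)

/-- The exchange morphism over an affine open. -/
def swapMap (chartC' : ∀ (U : Y.Opens) (hU : IsAffineOpen U), (((pC' ⁻¹ᵁ U : PC'.Opens) : Scheme.{u}) ≅ Proj (𝒮h'.deg U hU)))
    {U : Y.AffineZariskiSite} {t : Γ(L, U.1)} {t' : Γ(L', U.1)} (ht : IsGen L U.1 t)
    (ht' : IsGen L' U.1 t') {ψ} (hψ : IsSwap hz (j := j) hz' (j' := j') U t t' ψ)
    (hS : RelProj.IsGrSymAlg L 𝒮 j) (hLq : Coh.IsQCoh L) (hS' : RelProj.IsGrSymAlg L' 𝒮' j')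
    (hL'q : Coh.IsQCoh L') : Proj (𝒮h.deg U.1 U.2) ⟶ PC' :=
  Proj.map ψ (swap_irr hz hS hLq hz' hS' hL'q ht ht' hψ) ≫ RelProj.emb pC' chartC' U.1 U.2

include hS hLq hS' hL'q hPC' in
theorem swapMap_compat {U W : Y.AffineZariskiSite} (h : W ≤ U) {t : Γ(L, U.1)} {t' : Γ(L', U.1)}
    {s : Γ(L, W.1)} {s' : Γ(L', W.1)} (ht : IsGood η U (t, t')) (hs : IsGood η W (s, s'))
    {ψ} (hψ : IsSwap hz (j := j) hz' (j' := j') U t t' ψ) {χ} (hχ : IsSwap hz (j := j) hz' (j' := j') W s s' χ) :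
    Proj.map (RelProjK.rs 𝒮h h) (RelProjK.rs_irr 𝒮h h) ≫ swapMap hz hz' chartC' ht.1 ht.2.1 hψ hS hLq hS' hL'q =
      swapMap hz hz' chartC' hs.1 hs.2.1 hχ hS hLq hS' hL'q := by
  have hle := Scheme.AffineZariskiSite.toOpens_mono h
  obtain ⟨a, ha⟩ := hs.1.exists_smul_eq le_rfl (mres L hle t)
  obtain ⟨b, hb⟩ := hs.2.1.exists_smul_eq le_rfl (mres L' hle t')
  rw [mres_self] at ha hb
  have hab : a * b = 1 := by
    have h1 := (ht.mono η h).2.2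
    simp only at h1
    rw [ha, hb, pair_smul, hs.2.2, mul_one] at h1
    exact h1
  have hT : RelProjK.rs 𝒮h h (tT hz j U t) = sh 𝒮h W a * tT hz j W s := by
    show RelProjK.rs 𝒮h h (gh hz U _) = _
    rw [RelCone8.gradedHomAt_res hz h]
    show gh hz W (𝒮.presheaf.map (homOfLE hle).op (jsec (A := 𝒮.toQCAlg) j t)) = _
    rw [← jsec_mres (A := 𝒮.toQCAlg) j hle t, ha, jsec_smul, map_mul, gh_str]
    rfl
  have hT' : RelProjK.rs 𝒮h' h (tT hz' j' U t') = sh 𝒮h' W b * tT hz' j' W s' := by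
    show RelProjK.rs 𝒮h' h (gh hz' U _) = _
    rw [RelCone8.gradedHomAt_res hz' h]
    show gh hz' W (𝒮'.presheaf.map (homOfLE hle).op (jsec (A := 𝒮'.toQCAlg) j' t')) = _
    rw [← jsec_mres (A := 𝒮'.toQCAlg) j' hle t', hb, jsec_smul, map_mul, gh_str]
    rfl
  have hZ : RelProjK.rs 𝒮h h (zAt z U) = zAt z W := by
    show (𝒮h.presheaf.map (homOfLE hle).op).hom ((𝒮h.presheaf.map (homOfLE le_top).op).hom z) = _
    rw [← ConcreteCategory.comp_apply, ← Functor.map_comp]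
    rfl
  have hZ' : RelProjK.rs 𝒮h' h (zAt z' U) = zAt z' W := by
    show (𝒮h'.presheaf.map (homOfLE hle).op).hom ((𝒮h'.presheaf.map (homOfLE le_top).op).hom z') = _
    rw [← ConcreteCategory.comp_apply, ← Functor.map_comp]
    rfl
  have hr : ∀ r, RelProjK.rs 𝒮h h (sh 𝒮h U r) = sh 𝒮h W (fres Y hle r) := fun r =>
    (ConcreteCategory.congr_hom (𝒮h.str.naturality (homOfLE hle).op) r).symm
  have hr' : ∀ r, RelProjK.rs 𝒮h' h (sh 𝒮h' U r) = sh 𝒮h' W (fres Y hle r) := fun r =>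
    (ConcreteCategory.congr_hom (𝒮h'.str.naturality (homOfLE hle).op) r).symm
  let f := χ.comp (RelProjK.rs 𝒮h' h)
  let g := (RelProjK.rs 𝒮h h).comp ψ
  have htw : ∀ n, ∀ x ∈ 𝒮h'.deg U.1 U.2 n, f x = sh 𝒮h W b ^ n * g x :=
    poly_induction hz' hS' hL'q U ht.2.1 (fun n x => f x = sh 𝒮h W b ^ n * g x)
      (fun n => by simp) (fun n x y hx hy => by rw [map_add, map_add, hx, hy, mul_add])
      (fun n x hx => by rw [map_neg, map_neg, hx, mul_neg])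
      (fun r => by
        show χ (RelProjK.rs 𝒮h' h _) = _ * RelProjK.rs 𝒮h h (ψ _)
        rw [pow_zero, one_mul, hr', hχ.str, hψ.str, hr])
      (by
        show χ (RelProjK.rs 𝒮h' h _) = _ * RelProjK.rs 𝒮h h (ψ _)
        rw [pow_one, hT', map_mul, hχ.str, hχ.gen, hψ.gen, hZ])
      (by
        show χ (RelProjK.rs 𝒮h' h _) = _ * RelProjK.rs 𝒮h h (ψ _)
        rw [pow_one, hZ', hχ.var, hψ.var, hT, ← mul_assoc, ← map_mul, mul_comm b a, hab, map_one, one_mul])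
      (fun m n x y _ _ hx hy => by rw [map_mul, map_mul, hx, hy, pow_add]; ring)
  unfold swapMap
  rw [← Category.assoc, ← Proj.map_comp]
  rw [show RelProj.emb pC' chartC' W.1 W.2 =
      Proj.map (RelProjK.rs 𝒮h' h) (RelProjK.rs_irr 𝒮h' h) ≫ RelProj.emb pC' chartC' U.1 U.2 from
    (RelProjK.map_rs_em hPC' h).symm, ← Category.assoc]
  erw [← Proj.map_comp]
  refine congrArg (fun m => m ≫ RelProj.emb pC' chartC' U.1 U.2) ?_
  exact (proj_map_eq_of_twist f g _ _ (sh_mem W b) (sh_mem W a)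
    (by rw [← map_mul, mul_comm, hab, map_one]) htw).symm

include hS hLq hS' hL'q hPC hPC' in
theorem swapMap_comp {U : Y.AffineZariskiSite} {t : Γ(L, U.1)} {t' : Γ(L', U.1)} (ht : IsGen L U.1 t)
    (ht' : IsGen L' U.1 t') {ψ} (hψ : IsSwap hz (j := j) hz' (j' := j') U t t' ψ) :
    swapMap hz hz' chartC' ht ht' hψ hS hLq hS' hL'q ≫ pC' = RelProj.emb pC chartC U.1 U.2 ≫ pC := by
  rw [swapMap, Category.assoc, emb_comp hPC', emb_comp hPC]
  refine (Proj.mapAffineOpenCover ψ (swap_irr hz hS hLq hz' hS' hL'q ht ht' hψ)).openCover.hom_ext _ _ fun k => ?_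
  simp only [Scheme.AffineOpenCover.openCover_f, Proj.mapAffineOpenCover_f]
  rw [Proj.awayι_comp_map_assoc _ _ k.1.2 _ k.2.2, Proj.awayι_toSpecZero_assoc, Proj.awayι_toSpecZero_assoc,
    ← Spec.map_comp_assoc, ← Spec.map_comp_assoc, ← Spec.map_comp_assoc]
  congr 2
  refine CommRingCat.hom_ext (RingHom.ext fun x => ?_)
  show Away.map ψ _ (fromZeroRingHom (𝒮h'.deg U.1 U.2) _ ((𝒮h'.strZero U.1 U.2).hom x)) =
    fromZeroRingHom (𝒮h.deg U.1 U.2) _ ((𝒮h.strZero U.1 U.2).hom x)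
  have e0 : fromZeroRingHom (𝒮h'.deg U.1 U.2) (Submonoid.powers (k.2 : 𝒮h'.presheaf.obj (op U.1)))
        ((𝒮h'.strZero U.1 U.2).hom x) =
      Away.mk (𝒮h'.deg U.1 U.2) k.2.2 0 ((𝒮h'.str.app (op U.1)).hom x) (by simpa using 𝒮h'.str_mem U.1 U.2 x) := by
    ext
    simp [fromZeroRingHom, HomogeneousLocalization.val_mk, Away.val_mk]
    rfl
  rw [e0, Away.map_mk ψ _ k.2.2]
  ext
  simp [fromZeroRingHom, HomogeneousLocalization.val_mk, Away.val_mk]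
  exact congrArg (fun w => Localization.mk w _) (hψ.str x)

include hS hLq in
theorem mem_domOpen_iff_gen {U : Y.AffineZariskiSite} {t : Γ(L, U.1)} (ht : IsGen L U.1 t)
    (x : Proj (𝒮h.deg U.1 U.2)) :
    x ∈ RelCone.domOpen (gh hz U) ↔ x ∈ Proj.basicOpen (𝒮h.deg U.1 U.2) (tT hz j U t) := by
  constructor
  · intro hx
    have h := opensRange_domChart_top hz hS hLq U ht
    rw [RelCone8.opensRange_domChart] at h
    have : (⟨x, hx⟩ : (RelCone.domOpen (gh hz U) : Scheme.{u})) ∈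
        (RelCone.domOpen (gh hz U)).ι ⁻¹ᵁ Proj.basicOpen (𝒮h.deg U.1 U.2) (gh hz U (jsec (A := 𝒮.toQCAlg) j t)) := by
      rw [h]; trivial
    exact this
  · intro hx
    exact (RelCone8.mem_domOpen_iff _ _).2 ⟨⟨⟨1, one_pos⟩, ⟨_, jsec_mem hS U t⟩⟩, hx⟩

include hz hS hLq hz' hS' hL'q hPC hPC' in
theorem exists_swap_iso (hL : PicF.IsInvertible L) (hL' : PicF.IsInvertible L')
    (η : CohB1.tensorMod L L' ≅ Coh.structureModule Y)
    {i : 𝒮.toQCAlg.spec ⟶ PC} (hi : RelCone.IsConeImm 𝒮 hz pC chartC i)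
    {i' : 𝒮'.toQCAlg.spec ⟶ PC'} (hi' : RelCone.IsConeImm 𝒮' hz' pC' chartC' i') :
    ∃ Φ : PC ≅ PC', Φ.hom ≫ pC' = pC ∧
      Φ.hom.base ⁻¹' Set.range i'.base = (RelCone.pointedProjCone 𝒮 hz pC chartC : Set PC) ∧
      Φ.hom.base ⁻¹' (RelCone.pointedProjCone 𝒮' hz' pC' chartC' : Set PC') = Set.range i.base := by
  classical
  let I := Σ U : Y.AffineZariskiSite, {p : Γ(L, U.1) × Γ(L', U.1) // IsGood η U p}
  have hsw : ∀ k : I, ∃ ψ, IsSwap hz (j := j) hz' (j' := j') k.1 k.2.1.1 k.2.1.2 ψ :=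
    fun k => exists_swap hz hS hz' hS' hL'q k.1 k.2.1.1 k.2.2.2.1
  choose ψ hψ using hsw
  have hmem : ∀ x : PC, ∃ k : I, ∃ y, RelProj.emb pC chartC k.1.1 k.1.2 y = x := fun x => by
    obtain ⟨U, p, hx, hp⟩ := exists_good η hL hL' (pC x)
    refine ⟨⟨U, p, hp⟩, ?_⟩
    have h : x ∈ (RelProj.emb pC chartC U.1 U.2).opensRange := by rw [opensRange_emb']; exact hx
    exact h
  let 𝒰 : PC.OpenCover := Scheme.Cover.mkOfCovers I (fun k => Proj (𝒮h.deg k.1.1 k.1.2))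
    (fun k => RelProj.emb pC chartC k.1.1 k.1.2) hmem (fun k => inferInstance)
  let g : ∀ k : I, Proj (𝒮h.deg k.1.1 k.1.2) ⟶ PC' :=
    fun k => swapMap hz hz' chartC' k.2.2.1 k.2.2.2.1 (hψ k) hS hLq hS' hL'q
  have hπi : ∀ (U : Y.AffineZariskiSite) (y : Proj (𝒮h.deg U.1 U.2)), pC (RelProj.emb pC chartC U.1 U.2 y) ∈ U.1 :=
    fun U y => by
      show RelProj.emb pC chartC U.1 U.2 y ∈ pC ⁻¹ᵁ U.1
      rw [← opensRange_emb' (chart := chartC) U.1 U.2]; exact ⟨y, rfl⟩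
  have hcompat : ∀ k l : I, pullback.fst (RelProj.emb pC chartC k.1.1 k.1.2) (RelProj.emb pC chartC l.1.1 l.1.2) ≫ g k =
      pullback.snd (RelProj.emb pC chartC k.1.1 k.1.2) (RelProj.emb pC chartC l.1.1 l.1.2) ≫ g l := by
    intro k l
    let J := {W : Y.AffineZariskiSite // W ≤ k.1 ∧ W ≤ l.1}
    let b : ∀ W : J, Proj (𝒮h.deg W.1.1 W.1.2) ⟶
        pullback (RelProj.emb pC chartC k.1.1 k.1.2) (RelProj.emb pC chartC l.1.1 l.1.2) :=
      fun W => pullback.lift (Proj.map (RelProjK.rs 𝒮h W.2.1) (RelProjK.rs_irr 𝒮h W.2.1))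
        (Proj.map (RelProjK.rs 𝒮h W.2.2) (RelProjK.rs_irr 𝒮h W.2.2))
        ((RelProjK.map_rs_em hPC W.2.1).trans (RelProjK.map_rs_em hPC W.2.2).symm)
    let π₀ := pullback.fst (RelProj.emb pC chartC k.1.1 k.1.2) (RelProj.emb pC chartC l.1.1 l.1.2) ≫
      RelProj.emb pC chartC k.1.1 k.1.2
    have hb : ∀ W : J, b W ≫ π₀ = RelProj.emb pC chartC W.1.1 W.1.2 := fun W => by
      rw [pullback.lift_fst_assoc]
      exact RelProjK.map_rs_em hPC W.2.1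
    have hbo : ∀ W : J, IsOpenImmersion (b W) := fun W => by
      have : IsOpenImmersion (b W ≫ π₀) := by rw [hb]; infer_instance
      exact IsOpenImmersion.of_comp _ π₀
    have hbc : ∀ x, ∃ (W : J) (y : _), b W y = x := fun x => by
      let x₀ : PC := π₀ x
      have hk : pC x₀ ∈ k.1.1 :=
        hπi k.1 (pullback.fst (RelProj.emb pC chartC k.1.1 k.1.2) (RelProj.emb pC chartC l.1.1 l.1.2) x)
      have hl : pC x₀ ∈ l.1.1 := by
        have : x₀ = RelProj.emb pC chartC l.1.1 l.1.2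
            (pullback.snd (RelProj.emb pC chartC k.1.1 k.1.2) (RelProj.emb pC chartC l.1.1 l.1.2) x) :=
          ConcreteCategory.congr_hom (congrArg (fun t : pullback (RelProj.emb pC chartC k.1.1 k.1.2)
            (RelProj.emb pC chartC l.1.1 l.1.2) ⟶ PC => t.base) pullback.condition) x
        rw [this]
        exact hπi _ _
      obtain ⟨W, hWk, hWl, hW⟩ := RelCone8.exists_le_le k.1 l.1 hk hl
      have hw : x₀ ∈ (RelProj.emb pC chartC W.1 W.2).opensRange := by rw [opensRange_emb']; exact hW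
      obtain ⟨w, hw⟩ := hw
      refine ⟨⟨W, hWk, hWl⟩, w, π₀.isOpenEmbedding.injective ?_⟩
      show (b ⟨W, hWk, hWl⟩ ≫ π₀) w = x₀
      rw [hb]
      exact hw
    let 𝒲 : (pullback (RelProj.emb pC chartC k.1.1 k.1.2) (RelProj.emb pC chartC l.1.1 l.1.2)).OpenCover :=
      Scheme.Cover.mkOfCovers J (fun W => Proj (𝒮h.deg W.1.1 W.1.2)) b hbc hbo
    refine 𝒲.hom_ext _ _ fun (W : J) => ?_
    show b W ≫ _ = b W ≫ _
    rw [pullback.lift_fst_assoc, pullback.lift_snd_assoc]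
    obtain ⟨χ, hχ⟩ := exists_swap hz hS hz' hS' hL'q W.1
      (mres L (Scheme.AffineZariskiSite.toOpens_mono W.2.1) k.2.1.1) (k.2.2.mono η W.2.1).2.1
    exact (swapMap_compat hz hS hLq hz' hS' hL'q hPC' η W.2.1 k.2.2 (k.2.2.mono η W.2.1) (hψ k) hχ).trans
      (swapMap_compat hz hS hLq hz' hS' hL'q hPC' η W.2.2 l.2.2 (k.2.2.mono η W.2.1) (hψ l) hχ).symm
  let h : PC ⟶ PC' := 𝒰.glueMorphisms g hcompat
  have hh : ∀ k : I, RelProj.emb pC chartC k.1.1 k.1.2 ≫ h = g k := fun k => 𝒰.ι_glueMorphisms g hcompat k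
  have hπ : h ≫ pC' = pC := 𝒰.hom_ext _ _ fun (k : I) => by
    show RelProj.emb pC chartC k.1.1 k.1.2 ≫ h ≫ pC' = _
    rw [reassoc_of% (hh k)]
    exact swapMap_comp hz hS hLq hz' hS' hL'q hPC hPC' k.2.2.1 k.2.2.2.1 (hψ k)
  have hpb : ∀ k : I, IsPullback (RelProj.emb pC chartC k.1.1 k.1.2)
      (Proj.map (ψ k) (swap_irr hz hS hLq hz' hS' hL'q k.2.2.1 k.2.2.2.1 (hψ k))) h
      (RelProj.emb pC' chartC' k.1.1 k.1.2) := fun k => by
    refine (IsOpenImmersion.isPullback _ _ _ _ (hh k) ?_).flip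
    rw [opensRange_emb', opensRange_emb', ← Scheme.Hom.comp_preimage, hπ]
  have hiso : IsIso h := RelCone8.property_of_isPullback (MorphismProperty.isomorphisms Scheme)
    (fun k : I => RelProj.emb pC' chartC' k.1.1 k.1.2)
    (fun x => by
      obtain ⟨U, p, hx, hp⟩ := exists_good η hL hL' (pC' x)
      refine ⟨⟨U, p, hp⟩, ?_⟩
      have hx' : x ∈ (RelProj.emb pC' chartC' U.1 U.2).opensRange := by rw [opensRange_emb']; exact hx
      exact hx')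
    _ _ hpb fun k => isIso_swap hz hS hLq hz' hS' hL'q k.2.2.1 k.2.2.2.1 (hψ k)
  have hval : ∀ (k : I) (y : Proj (𝒮h.deg k.1.1 k.1.2)), h (RelProj.emb pC chartC k.1.1 k.1.2 y) =
      RelProj.emb pC' chartC' k.1.1 k.1.2
        (Proj.map (ψ k) (swap_irr hz hS hLq hz' hS' hL'q k.2.2.1 k.2.2.2.1 (hψ k)) y) := fun k y =>
    ConcreteCategory.congr_hom (congrArg (fun t : Proj (𝒮h.deg k.1.1 k.1.2) ⟶ PC' => t.base) (hh k)) y
  refine ⟨asIso h, hπ, ?_, ?_⟩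
  · ext x
    obtain ⟨k, y, rfl⟩ := hmem x
    show h _ ∈ Set.range i'.base ↔ _
    rw [hval, RelCone8.emb_mem_range_imm hz' hPC' hi' k.1]
    show _ ↔ RelProj.emb pC chartC k.1.1 k.1.2 y ∈ RelCone.pointedProjCone 𝒮 hz pC chartC
    rw [RelCone8.emb_mem_pointedProjCone_iff hz hPC k.1.1 k.1.2]
    refine Iff.trans ?_ (mem_domOpen_iff_gen hz hS hLq k.2.2.1 y).symm
    show y ∈ Proj.map (ψ k) _ ⁻¹ᵁ Proj.basicOpen _ (zAt z' k.1) ↔ _
    rw [Proj.map_preimage_basicOpen, (hψ k).var]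
  · ext x
    obtain ⟨k, y, rfl⟩ := hmem x
    show h _ ∈ RelCone.pointedProjCone 𝒮' hz' pC' chartC' ↔ _
    rw [hval, RelCone8.emb_mem_pointedProjCone_iff hz' hPC' k.1.1 k.1.2, RelCone8.emb_mem_range_imm hz hPC hi k.1]
    refine Iff.trans (mem_domOpen_iff_gen hz' hS' hL'q k.2.2.2.1 _) ?_
    show y ∈ Proj.map (ψ k) _ ⁻¹ᵁ Proj.basicOpen _ (tT hz' j' k.1 k.2.1.2) ↔ _
    rw [Proj.map_preimage_basicOpen, (hψ k).gen]

end GrothLib.ConeInv10
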